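import Cfsg.Agent.Lib.Cert.Mat
import Cfsg.Agent.Lib.Cert.M12p.Tw
import Cfsg.Agent.Lib.Cert.Sch5

set_option autoImplicit false
set_option maxRecDepth 100000

namespace Cfsg.Agent.Ct.M12p

open Cfsg.Agent.PC

open Cfsg.Agent.Fi Cfsg.Agent.Ct
def Wa_t : TL := (TL.node (TL.node (TL.node (TL.leaf [nat_lit 2, nat_lit 2, nat_lit 2, nat_lit 3, nat_lit 3, nat_lit 3, nat_lit 4, nat_lit 5, nat_lit 5, nat_lit 5, nat_lit 5, nat_lit 5, nat_lit 5, nat_lit 5, nat_lit 2, nat_lit 2, nat_lit 2]) (TL.leaf [nat_lit 4, nat_lit 5, nat_lit 5, nat_lit 5, nat_lit 5, nat_lit 5, nat_lit 5, nat_lit 5, nat_lit 3, nat_lit 3, nat_lit 0, nat_lit 0, nat_lit 0, nat_lit 2, nat_lit 5, nat_lit 0, nat_lit 3, nat_lit 3, nat_lit 3])) (TL.leaf [nat_lit 4, nat_lit 5, nat_lit 5, nat_lit 5, nat_lit 5, nat_lit 5, nat_lit 5, nat_lit 5, nat_lit 3, nat_lit 2, nat_lit 5, nat_lit 4, nat_lit 4, nat_lit 4,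 nat_lit 4, nat_lit 4, nat_lit 4, nat_lit 4, nat_lit 4, nat_lit 4, nat_lit 4, nat_lit 2, nat_lit 2, nat_lit 2, nat_lit 3, nat_lit 3, nat_lit 3])) (TL.node (TL.node (TL.leaf [nat_lit 2, nat_lit 2, nat_lit 2, nat_lit 3, nat_lit 3, nat_lit 3, nat_lit 4, nat_lit 5, nat_lit 5, nat_lit 5, nat_lit 5, nat_lit 5, nat_lit 5, nat_lit 5, nat_lit 1, nat_lit 3, nat_lit 3, nat_lit 3, nat_lit 0, nat_lit 0, nat_lit 0, nat_lit 4, nat_lit 5, nat_lit 5, nat_lit 5, nat_lit 5, nat_lit 5, nat_lit 5, nat_lit 5, nat_lit 3]) (TL.leaf [nat_lit 3, nat_lit 3])) (TL.leaf [nat_lit 0, nat_lit 3, nat_lit 1, nat_lit 1, nat_lit 1, nat_lit 2, nat_lit 2, nat_lit 2, nat_lit 1, nat_lit 3])))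
noncomputable def Wa (i : ℕ) : List ℕ := TL.get Wa_t i
def Va_t : TL := (TL.node (TL.node (TL.node (TL.leaf [nat_lit 2, nat_lit 1, nat_lit 0, nat_lit 5, nat_lit 1, nat_lit 3, nat_lit 5]) (TL.leaf [nat_lit 2, nat_lit 1, nat_lit 4, nat_lit 3, nat_lit 5, nat_lit 0, nat_lit 1, nat_lit 4, nat_lit 0])) (TL.leaf [nat_lit 2, nat_lit 1, nat_lit 0, nat_lit 5, nat_lit 0, nat_lit 1, nat_lit 5])) (TL.node (TL.node (TL.leaf [nat_lit 3, nat_lit 1, nat_lit 5, nat_lit 1, nat_lit 0, nat_lit 1, nat_lit 0, nat_lit 3]) (TL.leaf [nat_lit 3, nat_lit 0, nat_lit 4, nat_lit 0, nat_lit 1, nat_lit 0, nat_lit 1, nat_lit 5, nat_lit 3, nat_lit 0])) (TL.leaf [nat_lit 3, nat_lit 2, nat_lit 5, nat_lit 3, nat_lit 1, nat_lit 3])))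
noncomputable def Va (i : ℕ) : List ℕ := TL.get Va_t i
def B : List ℕ := [nat_lit 17, nat_lit 1, nat_lit 16, nat_lit 14, nat_lit 12, nat_lit 0, nat_lit 23]
noncomputable def a (j : ℕ) : G12 := ev (sub G12 (Spor.fam Spor.c12)) (Wa j)
noncomputable def A (j : ℕ) : ℕ → ℕ := trF (Spor.TP Spor.c12) (Wa j)
theorem md : Md Spor.gp 24 B a A 6 := (md12).words' (by decide +kernel)
theorem top : gen a 6 = ⊤ := (md12).topw (gen_sub_top Spor.gen12) md Va (by decide +kernel)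
theorem iv : InvOK a (fun j => j) 6 := md.inv (by decide +kernel)
theorem rl : ∀ w ∈ rels, ev a w = 1 := md.rels (by decide +kernel)
theorem ub : Ub (fun j => j) rels 6 (Nat.card (G12)) := fun _ _ _ h1 h2 => (card12) ▸ ub6 h1 h2

end Cfsg.Agent.Ct.M12p
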